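import Mathlib

/-!
Criteria for Jacobson rings: Artin–Tate condition.
-/

set_option autoImplicit false
universe u

namespace Groth.Agent.JacobsonCrit

variable {B : Type u} [CommRing B] [IsDomain B]

theorem isField_away_iff {f : B} (hf : f ≠ 0) :
    IsField (Localization.Away f) ↔ ∀ P : Ideal B, P.IsPrime → P ≠ ⊥ → f ∈ P := by
  have hS : Submonoid.powers f ≤ nonZeroDivisors B := powers_le_nonZeroDivisors_of_noZeroDivisors hf
  haveI : IsDomain (Localization.Away f) := IsLocalization.isDomain_localization hS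
  constructor
  · intro hF P hP hne
    by_contra hfP
    have hd : Disjoint (Submonoid.powers f : Set B) P := by
      rw [Set.disjoint_left]
      rintro _ ⟨n, rfl⟩ hn
      exact hfP (hP.mem_of_pow_mem n hn)
    have h1 := IsLocalization.isPrime_of_isPrime_disjoint (Submonoid.powers f) (Localization.Away f) P hP hd
    letI := hF.toField
    have h2 : Ideal.map (algebraMap B (Localization.Away f)) P = ⊥ :=
      (Ideal.eq_bot_or_top _).resolve_right h1.ne_top
    rw [Ideal.map_eq_bot_iff_le_ker, (RingHom.injective_iff_ker_eq_bot _).1 (IsLocalization.injective _ hS)] at h2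
    exact hne (le_bot_iff.1 h2)
  · intro h
    by_contra hF
    obtain ⟨Q, hQne, hQ⟩ := Ring.not_isField_iff_exists_prime.1 hF
    have hu : IsUnit (algebraMap B (Localization.Away f) f) := IsLocalization.Away.algebraMap_isUnit f
    refine hQ.ne_top (Ideal.eq_top_of_isUnit_mem _ (h _ (hQ.under B) ?_) hu)
    intro hbot
    apply hQne
    rw [← IsLocalization.map_under (Submonoid.powers f) (Localization.Away f) Q, hbot, Ideal.map_bot]

theorem not_isMaximal_bot_iff_exists : ¬ IsField B → ∀ P : Ideal B, P.IsMaximal → P ≠ ⊥ := fun h _ hP hbot =>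
  h (Ring.isField_iff_maximal_bot.2 (hbot ▸ hP))

theorem tfae_artinTate [IsNoetherianRing B] :
    [∃ f : B, f ≠ 0 ∧ IsField (Localization.Away f),
      Finite (PrimeSpectrum B),
      Finite (MaximalSpectrum B) ∧ ringKrullDim B ≤ 1].TFAE := by
  tfae_have 1 → 3 := by
    rintro ⟨f, hf, hF⟩
    rw [isField_away_iff hf] at hF
    have hmin : ∀ P : Ideal B, P.IsPrime → P ≠ ⊥ → P ∈ (Ideal.span {f}).minimalPrimes := by
      intro P hP hne
      by_contra hnot
      have hfin := Ideal.finite_minimalPrimes_of_isNoetherianRing B (Ideal.span {f})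
      obtain ⟨g, hgP, hg⟩ : ∃ g ∈ P, ∀ Q ∈ (Ideal.span {f}).minimalPrimes, g ∉ Q := by
        by_contra! H
        obtain ⟨Q, hQ, hPQ⟩ : ∃ Q ∈ hfin.toFinset, P ≤ Q := by
          refine (Ideal.subset_union_prime (f := id) P P (fun Q hQ _ _ => (hfin.mem_toFinset.1 hQ).1.1)).1 fun g hg => ?_
          obtain ⟨Q, hQ, hgQ⟩ := H g hg
          exact Set.mem_iUnion₂.2 ⟨Q, hfin.mem_toFinset.2 hQ, hgQ⟩
        have hQ' := hfin.mem_toFinset.1 hQ
        exact hnot ((le_antisymm hPQ (hQ'.2 ⟨hP, (Ideal.span_singleton_le_iff_mem _).2 (hF P hP hne)⟩ hPQ)) ▸ hQ')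
      obtain ⟨Q, hQ, hQP⟩ := Ideal.exists_minimalPrimes_le ((Ideal.span_singleton_le_iff_mem P).2 hgP)
      haveI := hQ.1.1
      have hQne : Q ≠ ⊥ := fun hb => by
        have hg0 : g = 0 := by simpa [hb] using hQ.1.2 (Ideal.mem_span_singleton_self g)
        obtain ⟨R, hR, -⟩ := Ideal.exists_minimalPrimes_le ((Ideal.span_singleton_le_iff_mem P).2 (hF P hP hne))
        exact hg R hR (hg0 ▸ zero_mem R)
      have hfQ := hF Q hQ.1.1 hQne
      obtain ⟨R, hR, hRQ⟩ := Ideal.exists_minimalPrimes_le ((Ideal.span_singleton_le_iff_mem Q).2 hfQ)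
      rcases eq_or_lt_of_le hRQ with rfl | hlt
      · exact hg R hR (hQ.1.2 (Ideal.mem_span_singleton_self g))
      · haveI := hR.1.1
        have h1 := Ideal.height_le_one_of_isPrincipal_of_mem_minimalPrimes (Ideal.span {g}) Q hQ
        have hRne : R ≠ ⊥ := fun hb => hf (by simpa [hb] using hR.1.2 (Ideal.mem_span_singleton_self f))
        have h3 : R.height < Q.height := by
          exact Ideal.height_strict_mono_of_isPrime_of_isPrime hlt
        have h4 : R.height ≠ 0 := fun h0 => hRne (Ideal.height_eq_zero_iff_eq_bot.1 h0)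
        exact h4 (ENat.lt_one_iff_eq_zero.1 (h3.trans_le h1))
    refine ⟨?_, ?_⟩
    · by_cases hB : IsField B
      · letI := hB.toField; infer_instance
      have hfin := (Ideal.finite_minimalPrimes_of_isNoetherianRing B (Ideal.span {f})).to_subtype
      exact Finite.of_injective (fun m : MaximalSpectrum B => (⟨m.asIdeal,
        hmin _ m.isMaximal.isPrime (not_isMaximal_bot_iff_exists hB _ m.isMaximal)⟩ : (Ideal.span {f}).minimalPrimes))
        fun a b h => MaximalSpectrum.ext (congrArg Subtype.val h)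
    · rw [← Nat.cast_one, ← Ring.krullDimLE_iff, Ring.krullDimLE_one_iff_of_noZeroDivisors]
      intro P hne hP
      obtain ⟨m, hm, hPm⟩ := Ideal.exists_le_maximal P hP.ne_top
      have hmne : m ≠ ⊥ := fun hb => hne (le_bot_iff.1 (hb ▸ hPm))
      rwa [le_antisymm hPm ((hmin m hm.isPrime hmne).2 (hmin P hP hne).1 hPm)]
  tfae_have 3 → 2 := by
    rintro ⟨hfin, hdim⟩
    rw [← Nat.cast_one, ← Ring.krullDimLE_iff, Ring.krullDimLE_one_iff_of_noZeroDivisors] at hdim
    classical
    refine Finite.of_surjective (fun o : Option (MaximalSpectrum B) => o.elim (⟨⊥, Ideal.isPrime_bot⟩ : PrimeSpectrum B)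
      MaximalSpectrum.toPrimeSpectrum) fun P => ?_
    by_cases hP : P.asIdeal = ⊥
    · exact ⟨none, PrimeSpectrum.ext hP.symm⟩
    · exact ⟨some ⟨P.asIdeal, hdim _ hP P.isPrime⟩, rfl⟩
  tfae_have 2 → 1 := by
    intro hfin
    haveI := Fintype.ofFinite (PrimeSpectrum B)
    have hne : ∀ P : PrimeSpectrum B, ∃ x : B, x ≠ 0 ∧ (P.asIdeal ≠ ⊥ → x ∈ P.asIdeal) := fun P => by
      by_cases hP : P.asIdeal = ⊥
      · exact ⟨1, one_ne_zero, fun h => (h hP).elim⟩
      · obtain ⟨x, hx, hx0⟩ := Submodule.exists_mem_ne_zero_of_ne_bot hP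
        exact ⟨x, hx0, fun _ => hx⟩
    choose x hx hxP using hne
    have hf : ∏ P, x P ≠ 0 := Finset.prod_ne_zero_iff.2 fun P _ => hx P
    exact ⟨_, hf, (isField_away_iff hf).2 fun P hP hne =>
      P.mem_of_dvd (Finset.dvd_prod_of_mem x (Finset.mem_univ ⟨P, hP⟩)) (hxP ⟨P, hP⟩ hne)⟩
  tfae_finish

omit [IsDomain B] in
theorem isJacobsonRing_tfae (A : Type u) [CommRing A] :
    [IsJacobsonRing A,
      ∀ (p : Ideal A) [p.IsPrime], ¬ p.IsMaximal → ∀ f : A ⧸ p, f ≠ 0 → ¬ IsField (Localization.Away f),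
      ∀ (K : Type u) [Field K] [Algebra A K], Algebra.FiniteType A K → Module.Finite A K].TFAE := by
  tfae_have 1 → 3 := fun h K _ _ hK => finite_of_finite_type_of_isJacobsonRing A K
  tfae_have 3 → 2 := by
    intro h p _ hp f hf hF
    letI : Field (Localization.Away f) := hF.toField
    haveI : Algebra.FinitePresentation (A ⧸ p) (Localization.Away f) := IsLocalization.Away.finitePresentation f
    haveI : Algebra.FiniteType A (A ⧸ p) := Algebra.FiniteType.of_surjective (Ideal.Quotient.mkₐ A p) Ideal.Quotient.mk_surjective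
    haveI : Algebra.FiniteType A (Localization.Away f) := Algebra.FiniteType.trans (S := A ⧸ p) inferInstance inferInstance
    haveI := h (Localization.Away f) inferInstance
    haveI : Module.Finite (A ⧸ p) (Localization.Away f) := Module.Finite.of_restrictScalars_finite A _ _
    exact hp (Ideal.Quotient.maximal_of_isField p (isField_of_isIntegral_of_isField
      (IsLocalization.injective _ (powers_le_nonZeroDivisors_of_noZeroDivisors hf)) hF))
  tfae_have 2 → 1 := by
    intro h
    rw [isJacobsonRing_iff_prime_eq]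
    intro P hP
    refine le_antisymm (fun g hg => ?_) Ideal.le_jacobson
    by_contra hgP
    have hd : Disjoint (P : Set A) (Submonoid.powers g : Set A) := by
      rw [Set.disjoint_right]
      rintro _ ⟨n, rfl⟩ hn
      exact hgP (hP.mem_of_pow_mem n hn)
    obtain ⟨q, hPq, hmax⟩ := zorn_le_nonempty₀ {q : Ideal A | Disjoint (q : Set A) (Submonoid.powers g : Set A)}
      (fun c hc hchain y hy => ⟨sSup c, by
        rw [Set.mem_ofPred_eq, Set.disjoint_left]
        intro z hz
        obtain ⟨I, hI, hzI⟩ := (Submodule.mem_sSup_of_directed ⟨y, hy⟩ hchain.directedOn).1 hz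
        exact Set.disjoint_left.1 (hc hI) hzI, fun z hz => le_sSup hz⟩) P hd
    have hdq : Disjoint (q : Set A) (Submonoid.powers g : Set A) := hmax.1
    haveI hq : q.IsPrime := Ideal.isPrime_of_maximally_disjoint q (Submonoid.powers g) hdq
      fun J hJ hdJ => hJ.ne (le_antisymm hJ.le (hmax.2 hdJ hJ.le))
    have hgq : g ∉ q := fun hg' => Set.disjoint_left.1 hdq hg' (Submonoid.mem_powers g)
    by_cases hqm : q.IsMaximal
    · exact hgq (Ideal.mem_sInf.1 hg ⟨hPq, hqm⟩)
    refine h q hqm (Ideal.Quotient.mk q g) (by rwa [Ne, Ideal.Quotient.eq_zero_iff_mem]) ?_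
    rw [isField_away_iff (by rwa [Ne, Ideal.Quotient.eq_zero_iff_mem])]
    intro R hR hne
    by_contra hgR
    haveI := hR
    have h3 : R.comap (Ideal.Quotient.mk q) ≤ q := hmax.2 (by
      show Disjoint ((R.comap (Ideal.Quotient.mk q) : Ideal A) : Set A) _
      rw [Set.disjoint_right]
      rintro _ ⟨n, rfl⟩ hn
      exact hgR ((hR.comap (Ideal.Quotient.mk q)).mem_of_pow_mem n hn))
      (fun z hz => by rw [Ideal.mem_comap, Ideal.Quotient.eq_zero_iff_mem.2 hz]; exact zero_mem R)
    apply hne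
    rw [← Ideal.map_comap_of_surjective _ Ideal.Quotient.mk_surjective R, Ideal.map_eq_bot_iff_le_ker, Ideal.mk_ker]
    exact h3
  tfae_finish

theorem isJacobsonRing_iff (A : Type u) [CommRing A] [IsNoetherianRing A] :
    IsJacobsonRing A ↔
      ∀ (p : Ideal A) [p.IsPrime], ¬ (Finite (MaximalSpectrum (A ⧸ p)) ∧ ringKrullDim (A ⧸ p) = 1) := by
  refine ((isJacobsonRing_tfae A).out 0 1 (a := IsJacobsonRing A) (b := ∀ (p : Ideal A) [p.IsPrime], ¬ p.IsMaximal → ∀ f : A ⧸ p, f ≠ 0 → ¬ IsField (Localization.Away f))).trans ?_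
  have key : ∀ (p : Ideal A) [p.IsPrime], (∃ f : A ⧸ p, f ≠ 0 ∧ IsField (Localization.Away f)) ↔
      Finite (MaximalSpectrum (A ⧸ p)) ∧ ringKrullDim (A ⧸ p) ≤ 1 := fun p _ => (tfae_artinTate (B := A ⧸ p)).out 0 2
  constructor
  · rintro h p _ ⟨h1, h2⟩
    obtain ⟨f, hf, hF⟩ := (key p).2 ⟨h1, h2.le⟩
    refine h p (fun hm => ?_) f hf hF
    letI := Ideal.Quotient.field p
    rw [ringKrullDim_eq_zero_of_field] at h2
    exact zero_ne_one h2
  · intro h p _ hp f hf hF
    obtain ⟨h1, h2⟩ := (key p).1 ⟨f, hf, hF⟩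
    refine h p ⟨h1, le_antisymm h2 ?_⟩
    by_contra hlt
    refine hp (Ideal.Quotient.maximal_of_isField p ?_)
    haveI : Ring.KrullDimLE 0 (A ⧸ p) := Ring.krullDimLE_iff.2 (ENat.WithBot.lt_add_one_iff.1 (by simpa using lt_of_not_ge hlt))
    exact Ring.KrullDimLE.isField_of_isDomain

end Groth.Agent.JacobsonCrit
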